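import Cfsg.Agent.Lib.Comp.Fi23.Base

set_option maxRecDepth 100000

namespace Cfsg.Lib.Comp.Fi23

universe u

noncomputable def MuH0_6_R : List (List ℕ × ℕ) := [([3],1)]

noncomputable def MuH0_6_n_3 : Net :=
 (Net.cons 1 (nat_lit 0x1)
 Net.nil)

noncomputable def MuH0_6_n : List Net := [Net.nil,
 Net.nil,
 Net.nil,
 MuH0_6_n_3]

theorem MuH0_6_n_ok : NetsOK 2 MuH0_6_n := netsOK_of (by decide +kernel)

theorem MuH0_6_n_rel : Rels (gp MuH0_6_n) MuH0_6_R := rels_of_relsB (k := 1) MuH0_6_n_ok (by norm_num) (by decide +kernel)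

theorem MuH0_6_fin : finB 2 MuH0_6_n [3] 2 (runH 2 MuH0_6_n (fun x p => ptInv (nth Net.nil MuH0_6_n x) p) iv MuH0_6_R [] ([].map fun x => [x]) 0 []
  [0]
  (defsH 2 MuH0_6_n (ones 22) [3] (Nat.shiftLeft 1 0) 0)) = true := by decide +kernel

theorem MuH0_6_idx : Idx.{u} iv (MuH0_6_R ++ []) ([].map fun x => [x]) [3] 2 :=
  Reach.idx MuH0_6_n_ok (reach_runH MuH0_6_n_ok (fun x p _ => ptInv_gp MuH0_6_n_ok x p) MuH0_6_n_rel (reach_defsH MuH0_6_n_ok _ _ _ _ _ _) _ _) MuH0_6_fin (by norm_num)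

end Cfsg.Lib.Comp.Fi23
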