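import Cfsg.Agent.Lib.Comp.Fi23.MuH0_0
import Cfsg.Agent.Lib.Comp.Fi23.MuH0_1
import Cfsg.Agent.Lib.Comp.Fi23.MuH0_2
import Cfsg.Agent.Lib.Comp.Fi23.MuH0_3
import Cfsg.Agent.Lib.Comp.Fi23.MuH0_4
import Cfsg.Agent.Lib.Comp.Fi23.MuH0_5
import Cfsg.Agent.Lib.Comp.Fi23.MuH0_6
import Cfsg.Agent.Lib.Comp.Fi23.MuH1_0
import Cfsg.Agent.Lib.Comp.Fi23.MuH1_1
import Cfsg.Agent.Lib.Comp.Fi23.MuH1_2
import Cfsg.Agent.Lib.Comp.Fi23.MuH1_3
import Cfsg.Agent.Lib.Comp.Fi23.MuH1_4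
import Cfsg.Agent.Lib.Comp.Fi23.MuH1_5
import Cfsg.Agent.Lib.Comp.Fi23.MuH1_6
import Cfsg.Agent.Lib.Comp.Fi23.MuH1_7
import Cfsg.Agent.Lib.Comp.Fi23.Mu1
import Cfsg.Agent.Lib.Comp.Fi23.Main
import Cfsg.Agent.Lib.Comp.Cover

set_option maxRecDepth 100000

namespace Cfsg.Lib.Comp.Fi23

universe u

theorem MuH0_6_ord : Ord.{u} iv MuH0_6_R [3] 2 :=
  (MuH0_6_idx.ord_base).of_cons (cons_of_subset (by decide +kernel))

theorem MuH0_5_ord : Ord.{u} iv MuH0_5_R [3,4] 6 :=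
  (MuH0_5_idx.ord_step MuH0_6_ord).of_cons (cons_of_subset (by decide +kernel))

theorem MuH0_4_ord : Ord.{u} iv MuH0_4_R [3,4,5] 24 :=
  (MuH0_4_idx.ord_step MuH0_5_ord).of_cons (cons_of_subset (by decide +kernel))

theorem MuH0_3_ord : Ord.{u} iv MuH0_3_R [3,4,5,8] 192 :=
  (MuH0_3_idx.ord_step MuH0_4_ord).of_cons (cons_of_subset (by decide +kernel))

theorem MuH0_2_ord : Ord.{u} iv MuH0_2_R [2,3,4,5,8] 1920 :=
  (MuH0_2_idx.ord_step MuH0_3_ord).of_cons (cons_of_subset (by decide +kernel))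

theorem MuH0_1_ord : Ord.{u} iv MuH0_1_R [2,3,4,5,6,8] 51840 :=
  (MuH0_1_idx.ord_step MuH0_2_ord).of_cons (cons_of_subset (by decide +kernel))

theorem MuH0_0_ord : Ord.{u} iv MuH0_0_R [1,2,3,4,5,6,8] 1451520 :=
  (MuH0_0_idx.ord_step MuH0_1_ord).of_cons (cons_of_subset (by decide +kernel))

noncomputable def MuH0_lb_n_1 : Net :=
 (Net.cons 32 (nat_lit 0x400)
 (Net.cons 16 (nat_lit 0x400)
 (Net.cons 8 (nat_lit 0x40000007c)
 (Net.cons 4 (nat_lit 0xe080c08)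
 (Net.cons 2 (nat_lit 0x20020000)
 (Net.cons 1 (nat_lit 0x11011404)
 (Net.cons 2 (nat_lit 0x103022300)
 (Net.cons 4 (nat_lit 0xc080e08)
 (Net.cons 8 (nat_lit 0x400780004)
 (Net.cons 16 (nat_lit 0xff7e)
 (Net.cons 32 (nat_lit 0x400)
 Net.nil)))))))))))

noncomputable def MuH0_lb_n_2 : Net :=
 (Net.cons 32 (nat_lit 0xfffc0000)
 (Net.cons 16 (nat_lit 0x555400000000)
 (Net.cons 1 (nat_lit 0x5554555500000001)
 (Net.cons 2 (nat_lit 0x333300000000)
 (Net.cons 4 (nat_lit 0x90900000000)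
 (Net.cons 8 (nat_lit 0x8100000000)
 (Net.cons 16 (nat_lit 0x555400000000)
 (Net.cons 32 (nat_lit 0xfffc0000)
 Net.nil))))))))

noncomputable def MuH0_lb_n_3 : Net :=
 (Net.cons 16 (nat_lit 0x55000000f800)
 (Net.cons 8 (nat_lit 0x80000000800000)
 (Net.cons 4 (nat_lit 0x60c0000)
 (Net.cons 2 (nat_lit 0x20020002)
 (Net.cons 1 (nat_lit 0x5500550015440004)
 (Net.cons 2 (nat_lit 0x3300000020200002)
 (Net.cons 4 (nat_lit 0x900000006030000)
 (Net.cons 8 (nat_lit 0x80000000c80000)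
 (Net.cons 16 (nat_lit 0x55000000f800)
 Net.nil)))))))))

noncomputable def MuH0_lb_n_4 : Net :=
 (Net.cons 32 (nat_lit 0x200000)
 (Net.cons 16 (nat_lit 0x2000000000)
 (Net.cons 8 (nat_lit 0xc600c40000)
 (Net.cons 4 (nat_lit 0x40600040200)
 (Net.cons 2 (nat_lit 0x202002200000)
 (Net.cons 1 (nat_lit 0x411504141504)
 (Net.cons 2 (nat_lit 0x202002200300)
 (Net.cons 4 (nat_lit 0x40600040200)
 (Net.cons 8 (nat_lit 0xf00c600c40000)
 (Net.cons 16 (nat_lit 0x2000000000)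
 (Net.cons 32 (nat_lit 0x200000)
 Net.nil)))))))))))

noncomputable def MuH0_lb_n_5 : Net :=
 (Net.cons 16 (nat_lit 0x2000)
 (Net.cons 8 (nat_lit 0x80000000b00098)
 (Net.cons 4 (nat_lit 0x804000000020000)
 (Net.cons 2 (nat_lit 0x20000000002220)
 (Net.cons 1 (nat_lit 0x44000000011110)
 (Net.cons 2 (nat_lit 0x220011022002220)
 (Net.cons 4 (nat_lit 0x904020805020900)
 (Net.cons 8 (nat_lit 0x80000000b00098)
 (Net.cons 16 (nat_lit 0x2000)
 Net.nil)))))))))

noncomputable def MuH0_lb_n_6 : Net :=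
 (Net.cons 16 (nat_lit 0xc000)
 (Net.cons 8 (nat_lit 0xc00000)
 (Net.cons 4 (nat_lit 0xc0c0c00)
 (Net.cons 2 (nat_lit 0x202202020202000)
 (Net.cons 1 (nat_lit 0x1404444414101510)
 (Net.cons 2 (nat_lit 0x212202020212000)
 (Net.cons 4 (nat_lit 0xc0c0c00)
 (Net.cons 8 (nat_lit 0xc00000)
 (Net.cons 16 (nat_lit 0xc000)
 Net.nil)))))))))

noncomputable def MuH0_lb_n_8 : Net :=
 (Net.cons 32 (nat_lit 0xb6000000)
 (Net.cons 16 (nat_lit 0x278000000000)
 (Net.cons 8 (nat_lit 0xb000000070)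
 (Net.cons 4 (nat_lit 0x40008020a000000)
 (Net.cons 2 (nat_lit 0x2002000000)
 (Net.cons 1 (nat_lit 0x5500451154000000)
 (Net.cons 2 (nat_lit 0x3000032002000000)
 (Net.cons 4 (nat_lit 0x40008020a000708)
 (Net.cons 8 (nat_lit 0xb000000070)
 (Net.cons 16 (nat_lit 0x278000000000)
 (Net.cons 32 (nat_lit 0xb6000000)
 Net.nil)))))))))))

noncomputable def MuH0_lb_n_64 : Net :=
 (Net.cons 16 (nat_lit 0xa05000000e08)
 (Net.cons 8 (nat_lit 0x800d0)
 (Net.cons 4 (nat_lit 0x60800080c040c)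
 (Net.cons 2 (nat_lit 0x2000000020002)
 (Net.cons 1 (nat_lit 0x4404504040440144)
 (Net.cons 2 (nat_lit 0x12000000021002)
 (Net.cons 4 (nat_lit 0xc060800080c0c0c)
 (Net.cons 8 (nat_lit 0x800d0)
 (Net.cons 16 (nat_lit 0xe85800000e08)
 Net.nil)))))))))

noncomputable def MuH0_lb_n_65 : Net :=
 (Net.cons 32 (nat_lit 0x100000)
 (Net.cons 16 (nat_lit 0x403000008060)
 (Net.cons 8 (nat_lit 0x4000c000800088)
 (Net.cons 4 (nat_lit 0x60002020400)
 (Net.cons 2 (nat_lit 0x2000202200000200)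
 (Net.cons 1 (nat_lit 0x4505154451450104)
 (Net.cons 2 (nat_lit 0x2010202230001220)
 (Net.cons 4 (nat_lit 0x60902020600)
 (Net.cons 8 (nat_lit 0x4c00c000800088)
 (Net.cons 16 (nat_lit 0x403000008060)
 (Net.cons 32 (nat_lit 0x100000)
 Net.nil)))))))))))

noncomputable def MuH0_lb_n_66 : Net :=
 (Net.cons 32 (nat_lit 0x10900000)
 (Net.cons 16 (nat_lit 0xff0000001090)
 (Net.cons 8 (nat_lit 0x90008000e8)
 (Net.cons 4 (nat_lit 0x4020a0808000000)
 (Net.cons 2 (nat_lit 0x2020020000000000)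
 (Net.cons 1 (nat_lit 0x4110114045105500)
 (Net.cons 2 (nat_lit 0x3122200021203320)
 (Net.cons 4 (nat_lit 0xb06050907010600)
 (Net.cons 8 (nat_lit 0x90003100e8)
 (Net.cons 16 (nat_lit 0xff0000001090)
 (Net.cons 32 (nat_lit 0x10900000)
 Net.nil)))))))))))

noncomputable def MuH0_lb_n_67 : Net :=
 (Net.cons 32 (nat_lit 0x80000000)
 (Net.cons 16 (nat_lit 0xe00000008000)
 (Net.cons 8 (nat_lit 0xe000000000)
 (Net.cons 4 (nat_lit 0xc0008080000)
 (Net.cons 2 (nat_lit 0x20200202020220)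
 (Net.cons 1 (nat_lit 0x4444145111111440)
 (Net.cons 2 (nat_lit 0x20203202020220)
 (Net.cons 4 (nat_lit 0xc0908080000)
 (Net.cons 8 (nat_lit 0xe000810000)
 (Net.cons 16 (nat_lit 0xe00000008000)
 (Net.cons 32 (nat_lit 0x80000000)
 Net.nil)))))))))))

noncomputable def MuH0_lb_n : List Net := (apd [Net.nil,
 MuH0_lb_n_1,
 MuH0_lb_n_2,
 MuH0_lb_n_3,
 MuH0_lb_n_4,
 MuH0_lb_n_5,
 MuH0_lb_n_6,
 Net.nil,
 MuH0_lb_n_8,
 Net.nil,
 Net.nil,
 Net.nil,
 Net.nil,
 Net.nil,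
 Net.nil,
 Net.nil,
 Net.nil,
 Net.nil,
 Net.nil,
 Net.nil,
 Net.nil,
 Net.nil,
 Net.nil,
 Net.nil,
 Net.nil,
 Net.nil,
 Net.nil,
 Net.nil,
 Net.nil,
 Net.nil,
 Net.nil,
 Net.nil,
 Net.nil,
 Net.nil,
 Net.nil,
 Net.nil,
 Net.nil,
 Net.nil,
 Net.nil,
 Net.nil]
 [Net.nil,
 Net.nil,
 Net.nil,
 Net.nil,
 Net.nil,
 Net.nil,
 Net.nil,
 Net.nil,
 Net.nil,
 Net.nil,
 Net.nil,
 Net.nil,
 Net.nil,
 Net.nil,
 Net.nil,
 Net.nil,
 Net.nil,
 Net.nil,
 Net.nil,
 Net.nil,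
 Net.nil,
 Net.nil,
 Net.nil,
 Net.nil,
 MuH0_lb_n_64,
 MuH0_lb_n_65,
 MuH0_lb_n_66,
 MuH0_lb_n_67])

theorem MuH0_lb_n_ok : NetsOK 64 MuH0_lb_n := netsOK_of (by decide +kernel)

theorem MuH0_lb : 1451520 ≤ Nat.card (cl (gp nets) [1,2,3,4,5,6,8]) :=
  lb_of_itwB (k := 6) (n := 63) nets_ok MuH0_lb_n_ok (by norm_num) (by norm_num) (tbA_pt nets_ok) (tbA_pt MuH0_lb_n_ok) (φ := look2 (nat_lit 0xb2500b3500b7800b2300b3800b7e00b7900b7f00b1500b1f00b0800b1400b1e00b0d00b0e00ba400bb000be500ba200bb300bf500be600bf600c2700c2600c0900c2500c2800c0b00b800002700031000560002500032000620005700063000a6000a300089000a2000a70008a0000300002002d7002e2002c0002d6002e3002c40025f0026900292002930025d0026a0029e0029f0023b0023a00001) 20 64) (by decide +kernel) (by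
    rw [← cl_eq_of_slpB (k := 6) (D := [(64,[2,1,3,2,4,3,5,8,4,8,5,3,4,2,3,1,2]),
 (65,[3,4,64,8,5,4,3,1]),
 (66,[4,65,8,5,4]),
 (67,[5,8,66])]) MuH0_lb_n_ok (by norm_num) (by decide +kernel)]
    exact lb_of_chainB MuH0_lb_n_ok (C := [([1,3,4,5,6,8,64,65,66,67],[2,1,3,64,4,6,2,5,65,3,4,5,6],0,0,63),
 ([4,5,6,8,65,66,67],[1,3,64,4,6,5,65],1,1,32),
 ([5,6,8,66,67],[4,65,5,6,65,66,6],2,2,15),
 ([6,67],[5,8,6,66],3,3,8),
 ([67],[6,67],4,4,3),
 ([],[67],5,5,2)]) (by decide +kernel))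

theorem MuH1_7_ord : Ord.{u} iv MuH1_7_R [3] 2 :=
  (MuH1_7_idx.ord_base).of_cons (cons_of_subset (by decide +kernel))

theorem MuH1_6_ord : Ord.{u} iv MuH1_6_R [3,4] 6 :=
  (MuH1_6_idx.ord_step MuH1_7_ord).of_cons (cons_of_subset (by decide +kernel))

theorem MuH1_5_ord : Ord.{u} iv MuH1_5_R [3,4,5] 24 :=
  (MuH1_5_idx.ord_step MuH1_6_ord).of_cons (cons_of_subset (by decide +kernel))

theorem MuH1_4_ord : Ord.{u} iv MuH1_4_R [3,4,5,8] 192 :=
  (MuH1_4_idx.ord_step MuH1_5_ord).of_cons (cons_of_subset (by decide +kernel))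

theorem MuH1_3_ord : Ord.{u} iv MuH1_3_R [2,3,4,5,8] 1920 :=
  (MuH1_3_idx.ord_step MuH1_4_ord).of_cons (cons_of_subset (by decide +kernel))

theorem MuH1_2_ord : Ord.{u} iv MuH1_2_R [2,3,4,5,6,8] 51840 :=
  (MuH1_2_idx.ord_step MuH1_3_ord).of_cons (cons_of_subset (by decide +kernel))

theorem MuH1_1_ord : Ord.{u} iv MuH1_1_R [2,3,4,5,6,7,8] 2903040 :=
  (MuH1_1_idx.ord_step MuH1_2_ord).of_cons (cons_of_subset (by decide +kernel))

theorem MuH1_0_ord : Ord.{u} iv MuH1_0_R [2,3,4,5,6,7,8,10] 696729600 :=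
  (MuH1_0_idx.ord_step MuH1_1_ord).of_cons (cons_of_subset (by decide +kernel))

noncomputable def MuH1_lb_n_2 : Net :=
 (Net.cons 32 (nat_lit 0x30fd004000000000c19f4028)
 (Net.cons 16 (nat_lit 0x3060000080280000800000000e98)
 (Net.cons 8 (nat_lit 0x80000000e00000005a00c8)
 (Net.cons 4 (nat_lit 0xc0400000004040800000e000802)
 (Net.cons 2 (nat_lit 0x20002200000002000000202000)
 (Net.cons 1 (nat_lit 0x10044001100100001001054451050)
 (Net.cons 2 (nat_lit 0x3020002200032102000230202200)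
 (Net.cons 4 (nat_lit 0xc0400090004040800000e000802)
 (Net.cons 8 (nat_lit 0x80000000e00000005a00c8)
 (Net.cons 16 (nat_lit 0x30e00000802c0000800000000e98)
 (Net.cons 32 (nat_lit 0x30fd004000000000c19f402c)
 Net.nil)))))))))))

noncomputable def MuH1_lb_n_3 : Net :=
 (Net.cons 16 (nat_lit 0x1000000028000000300000005300)
 (Net.cons 8 (nat_lit 0x100040000800100020004c00800000)
 (Net.cons 4 (nat_lit 0x80408020402040004000408040008)
 (Net.cons 2 (nat_lit 0x200002200200020020000202200)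
 (Net.cons 1 (nat_lit 0x400400104110400040010404404440)
 (Net.cons 2 (nat_lit 0x220002202200020021010202200)
 (Net.cons 4 (nat_lit 0x904080204020c0905040408040708)
 (Net.cons 8 (nat_lit 0x100040008800100031004c00810000)
 (Net.cons 16 (nat_lit 0x1000000028000000300000005300)
 Net.nil)))))))))

noncomputable def MuH1_lb_n_4 : Net :=
 (Net.cons 16 (nat_lit 0xc000000000000000c000)
 (Net.cons 8 (nat_lit 0x8000e0000000e000800000)
 (Net.cons 4 (nat_lit 0x808000000080000080e00)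
 (Net.cons 2 (nat_lit 0x2220000000200000220000)
 (Net.cons 1 (nat_lit 0x410104054145404105454014415440)
 (Net.cons 2 (nat_lit 0x2223000000230000223000)
 (Net.cons 4 (nat_lit 0x808000000080000080e00)
 (Net.cons 8 (nat_lit 0x8000e0000000e000800000)
 (Net.cons 16 (nat_lit 0xc000000000000000c000)
 Net.nil)))))))))

noncomputable def MuH1_lb_n_5 : Net :=
 (Net.cons 16 (nat_lit 0x2000000080040000001800002008)
 (Net.cons 8 (nat_lit 0x800010001800880040008000a00050)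
 (Net.cons 4 (nat_lit 0x8040002080006040200000608)
 (Net.cons 2 (nat_lit 0x20000020000000200200000220000)
 (Net.cons 1 (nat_lit 0x40004010001040405400100111000)
 (Net.cons 2 (nat_lit 0x20020000122100200213202020220320)
 (Net.cons 4 (nat_lit 0x108040006080006050200000608)
 (Net.cons 8 (nat_lit 0x800010001800880040008000a40078)
 (Net.cons 16 (nat_lit 0x2000000080040000001800002008)
 Net.nil)))))))))

noncomputable def MuH1_lb_n_6 : Net :=
 (Net.cons 16 (nat_lit 0xc00000001000)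
 (Net.cons 8 (nat_lit 0x800020005000e0004000180000)
 (Net.cons 4 (nat_lit 0x400020000040004000c0000080404)
 (Net.cons 2 (nat_lit 0x2000000000000000000000000000)
 (Net.cons 1 (nat_lit 0x4010000000040000000400000000)
 (Net.cons 2 (nat_lit 0x102000002201303000212002020110)
 (Net.cons 4 (nat_lit 0x408020c000400040c0c000c010c04)
 (Net.cons 8 (nat_lit 0x800020005000e0004000920000)
 (Net.cons 16 (nat_lit 0xc00000001000)
 Net.nil)))))))))

noncomputable def MuH1_lb_n_7 : Net :=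
 (Net.cons 8 (nat_lit 0x800000008000000000)
 (Net.cons 4 (nat_lit 0x808080000080800080e00)
 (Net.cons 2 (nat_lit 0x2020200000002000200200)
 (Net.cons 1 (nat_lit 0x104401101040101040101001100410)
 (Net.cons 2 (nat_lit 0x32023200003032030203200)
 (Net.cons 4 (nat_lit 0x808080000080800080e00)
 (Net.cons 8 (nat_lit 0x800000008000000000)
 Net.nil)))))))

noncomputable def MuH1_lb_n_8 : Net :=
 (Net.cons 16 (nat_lit 0x40000015000000d60000001060)
 (Net.cons 8 (nat_lit 0xc0080008800a200000000)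
 (Net.cons 4 (nat_lit 0x402000004020c0004000002080008)
 (Net.cons 2 (nat_lit 0x20020200000002020000020000)
 (Net.cons 1 (nat_lit 0x1040010401050004540110011000)
 (Net.cons 2 (nat_lit 0x10020121200030022320001020120)
 (Net.cons 4 (nat_lit 0x402000004060c0a040600020c0008)
 (Net.cons 8 (nat_lit 0xc0080008800a200000000)
 (Net.cons 16 (nat_lit 0x48000015420000d60000005560)
 Net.nil)))))))))

noncomputable def MuH1_lb_n_10 : Net :=
 (Net.cons 64 (nat_lit 0x17fb79ed00000000)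
 (Net.cons 32 (nat_lit 0xfff400000000000031222e80)
 (Net.cons 16 (nat_lit 0xbc90000042400000400000002020)
 (Net.cons 8 (nat_lit 0x9000400000000000c8000400200008)
 (Net.cons 4 (nat_lit 0xa04000000040004000000080000)
 (Net.cons 2 (nat_lit 0x200020000002020202020000000020)
 (Net.cons 1 (nat_lit 0x40414540010004040104040400000014)
 (Net.cons 2 (nat_lit 0x310320000002023202020000200020)
 (Net.cons 4 (nat_lit 0x70a0d040000040004000000080002)
 (Net.cons 8 (nat_lit 0x9000640000000000c8002400200008)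
 (Net.cons 16 (nat_lit 0xbc90000052500000400000002020)
 (Net.cons 32 (nat_lit 0xfff400000000000031222e81)
 (Net.cons 64 (nat_lit 0x17fb79ed00000000)
 Net.nil)))))))))))))

noncomputable def MuH1_lb_n_64 : Net :=
 (Net.cons 16 (nat_lit 0xf000000000000000e76800000000)
 (Net.cons 8 (nat_lit 0x300000000000000000008200000000)
 (Net.cons 4 (nat_lit 0xa02000800000000)
 (Net.cons 2 (nat_lit 0x2020202000000000)
 (Net.cons 1 (nat_lit 0x140050000000001010454500000000)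
 (Net.cons 2 (nat_lit 0x30330333000000002323222100000000)
 (Net.cons 4 (nat_lit 0xf000000000000020a0a0400000000)
 (Net.cons 8 (nat_lit 0x30000f0000000000ff007d00000000)
 (Net.cons 16 (nat_lit 0xf000000000000000e76800000000)
 Net.nil)))))))))

noncomputable def MuH1_lb_n_65 : Net :=
 (Net.cons 16 (nat_lit 0xc000000058000000000000004000)
 (Net.cons 8 (nat_lit 0xf0000000f8000000f000f800d00000)
 (Net.cons 4 (nat_lit 0xc0000080200080c000000000a0000)
 (Net.cons 2 (nat_lit 0x20000000002000000000000)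
 (Net.cons 1 (nat_lit 0x401050041401005551545005140404)
 (Net.cons 2 (nat_lit 0x30030303323330300332003013332030)
 (Net.cons 4 (nat_lit 0xc0000080d00080c000c0000050000)
 (Net.cons 8 (nat_lit 0xf0000000f8000000f000f800d00000)
 (Net.cons 16 (nat_lit 0xc000000058000000000000004000)
 Net.nil)))))))))

noncomputable def MuH1_lb_n : List Net := (apd [Net.nil,
 Net.nil,
 MuH1_lb_n_2,
 MuH1_lb_n_3,
 MuH1_lb_n_4,
 MuH1_lb_n_5,
 MuH1_lb_n_6,
 MuH1_lb_n_7,
 MuH1_lb_n_8,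
 Net.nil,
 MuH1_lb_n_10,
 Net.nil,
 Net.nil,
 Net.nil,
 Net.nil,
 Net.nil,
 Net.nil,
 Net.nil,
 Net.nil,
 Net.nil,
 Net.nil,
 Net.nil,
 Net.nil,
 Net.nil,
 Net.nil,
 Net.nil,
 Net.nil,
 Net.nil,
 Net.nil,
 Net.nil,
 Net.nil,
 Net.nil,
 Net.nil,
 Net.nil,
 Net.nil,
 Net.nil,
 Net.nil,
 Net.nil,
 Net.nil,
 Net.nil]
 [Net.nil,
 Net.nil,
 Net.nil,
 Net.nil,
 Net.nil,
 Net.nil,
 Net.nil,
 Net.nil,
 Net.nil,
 Net.nil,
 Net.nil,
 Net.nil,
 Net.nil,
 Net.nil,
 Net.nil,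
 Net.nil,
 Net.nil,
 Net.nil,
 Net.nil,
 Net.nil,
 Net.nil,
 Net.nil,
 Net.nil,
 Net.nil,
 MuH1_lb_n_64,
 MuH1_lb_n_65])

theorem MuH1_lb_n_ok : NetsOK 128 MuH1_lb_n := netsOK_of (by decide +kernel)

theorem MuH1_lb : 348364800 ≤ Nat.card (cl (gp nets) [2,3,4,5,6,7,8,10]) :=
  lb_of_itwB (k := 7) (n := 120) nets_ok MuH1_lb_n_ok (by norm_num) (by norm_num) (tbA_pt nets_ok) (tbA_pt MuH1_lb_n_ok) (φ := look2 (nat_lit 0xdd500e1d00f5800f5700ed100fc800fc700eb800dc800dc700dd600df800f6b00f6700df700db800fdb00eb700e1600db700ecd00fdc00dba00db902413023030198801984023a402332023a30232e019f5018eb019f6023310232d02414022fb019e7018d80232c0232802301024090232b0239b0232702398022fa0240a0197801977019e8018ed018d700003000630025d0025a000020027b0027a0023d000320002f000620000400031000a70002e0009d000560008a002d7002d3002c0002d60025f002d20025b002ba0027d000a60009c00083000570027c00b1e00b3800b1c00b3400b0d00b7e00bb300baf00bf500b8000bf600b1f00b1d00b7f00b0c00be500c0b00b3500b3000bb000c2800bac00c2000b7800b0e00b7900c2700c1f00be600c0200b8100000)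 20 64) (by decide +kernel) (by
    rw [← cl_eq_of_slpB (k := 7) (D := [(64,[2,3,4,5,6,7,8,4,3,5,4,6,5,8,4,3,2,3,4,8,5,6,4,5,3,4,8,7,6,5,4,3,2]),
 (65,[5,4,3,6,7,5,64,6,4,5])]) MuH1_lb_n_ok (by norm_num) (by decide +kernel)]
    exact lb_of_chainB MuH1_lb_n_ok (C := [([2,3,4,5,6,7,8,64,65],[10,7,64,65,2,10,3,65,8,65,2,64,3,5,65],0,0,120),
 ([3,4,5,6,7,8,64,65],[2,3,64,65,8,4,2,65,8,5,65,2,3],1,1,63),
 ([3,4,5,6,7,64,65],[8,4,65,5,8,6,65,4,3,8],64,64,32),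
 ([3,4,6,7,65],[5,64,4,6,65,3,4],32,32,20),
 ([4,7,65],[3,6,4,7],66,66,9),
 ([4],[7,65],96,96,4),
 ([],[4],104,104,2)]) (by decide +kernel))

theorem Mu_mb : MB (cl (gp nets) L) 11741730 1 :=
  mb_one (w := 55) (n := 57) (La := L) (ix := nth 0 [0,0,1,2,3,4,5,6,7,8,9]) (by norm_num) (by norm_num) (nets_iv.sval _) (nets_rel.sval fun r hr x hx => mem_cl (sub_of_allR (by decide +kernel) r hr x hx)) (by decide +kernel)
    (TStep.trans (TStep.trans (TStep.trans (TStep.trans (TStep.trans (TStep.trans (TStep.trans (TStep.trans (TStep.trans (TStep.trans (TStep.repar (k' := 47) (by norm_num) (by norm_num) (by decide +kernel) (by decide +kernel) Mu1_b)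
    (TStep.enum0 (by norm_num) (by norm_num) Mu2_0 (Gs := Mu2G) (by decide +kernel)))
    (TStep.repar (k' := 3) (by norm_num) (by norm_num) (by decide +kernel) (by decide +kernel) Mu3_b))
    (TStep.enum0 (by norm_num) (by norm_num) Mu4_0 (Gs := Mu4G) (by decide +kernel)))
    (TStep.repar (k' := 2) (by norm_num) (by norm_num) (by decide +kernel) (by decide +kernel) Mu5_b))
    (TStep.enum0 (by norm_num) (by norm_num) Mu6_0 (Gs := Mu6G) (by decide +kernel)))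
    (TStep.repar (k' := 1) (by norm_num) (by norm_num) (by decide +kernel) (by decide +kernel) Mu7_b))
    (TStep.enum (by norm_num) (by norm_num) Mu8_0 (I := [0,1,2,3,4,5,7,10,11,12,13,14,16,19,20,21,22,24,27,28,29,31,34,35,37,40,42,46,56]) (by decide +kernel) (by decide +kernel) MuH0_0_ord (c := 1) (lb_sval (fun _ hx => mem_cl (sub_of_subB (by decide +kernel) _ hx)) MuH0_lb (by norm_num)) (Gs := Mu8G) (by decide +kernel)))
    (TStep.repar (k' := 1) (by norm_num) (by norm_num) (by decide +kernel) (by decide +kernel) Mu9_b))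
    (TStep.enum (by norm_num) (by norm_num) Mu10_1 (I := [1,2,3,4,5,6,7,9,19,20,21,22,23,24,26,27,28,29,30,31,33,34,35,36,37,39,40,41,42,44,45,46,48,49,51,53]) (by decide +kernel) (by decide +kernel) MuH1_0_ord (c := 2) (lb_sval (fun _ hx => mem_cl (sub_of_subB (by decide +kernel) _ hx)) MuH1_lb (by norm_num)) (Gs := Mu10G) (by decide +kernel)))
    (TStep.repar (k' := 0) (by norm_num) (by norm_num) (by decide +kernel) (by decide +kernel) Mu11_b))
    (L := [1,2,3,4,5,6,7,8,9,10]) (I := [0,1,2,3,4,5,6,7,8,9,10,11,12,13,14,15,16,17,18,19,20,21,22,23,24,25,26,27,28,29,30,31,32,33,34,35,36,37,38,39,40,41,42,43,44,45,46,47,48,49,50,51,52,53,54,55,56]) (by decide +kernel) (by decide +kernel) ord card.ge (cl_sval_top _ _)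

end Cfsg.Lib.Comp.Fi23
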