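import Cfsg.Agent.Lib.Comp.Fi23.Mx0

set_option maxRecDepth 100000
set_option Elab.async false

namespace Cfsg.Lib.Comp.Fi23

universe u

def mL : List ℕ := [1,2,3,4,5,6,7,8,9,10]

def mH : List ℕ := [1,2,4,5,7,8,9,10]

noncomputable def mC : List Lev := [([1,2,3,4,5,6,7,8],[9,2,3,4,5,6,9,8,4,2,9,5,8,4,9,2,1,1],1,1,3510),
 ([1,2,3,4,5,6],[7,8,2,3,4,5,6,8,2,4,3,8,5,4,2,8,6,5,2,4],3511,3511,25344),
 ([1,2,3,4],[5,6,2,3,4,5,6,2,4,1,3,5,4,2,5,1],695,695,2240),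
 ([1,2,3],[4,2,3,4,2,3,4,4],4145,4145,36),
 ([1],[2,3,2],15031,15031,6),
 ([],[1,1],2,2,3)]

theorem m_m1 : gp mn 1 ∈ (cl (gp nets) L).map (MulAut.conj mpi.perm).toMonoidHom :=
  mem_conj_of_eqB (k := 15) (w := (apd [5,6,5,7,6,5,9,8,64,6,5,7,6,9,8,64,6,5,9,8,4,5,6,7,64,6,5,4,9,8,4,64,6,5,3,4,5,6,7,8,9,64,9,8,4,3,5,4,2,3,4,5,6,8,9,64,6,5,4,7]
 [9,10,7,6,5,4,3,2,1,8,4,9,64,6,5,4,3,7,6,8,4,5,6,9,64,6,7,9])) nets_ok (by norm_num) mpi_ok (mn_ok 1) (fun _ => mem_all) (by decide +kernel)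

theorem m_m2 : gp mn 2 ∈ (cl (gp nets) L).map (MulAut.conj mpi.perm).toMonoidHom :=
  mem_conj_of_eqB (k := 15) (w := [7,6,8,9,64,6,7,9,8,64,6,5,4,5,6,7,8,4,5,6,9,3,4,5,6,7,64,6,5,9,8,64,9,2,1,3,2,4,3,5,6,7,8,64]) nets_ok (by norm_num) mpi_ok (mn_ok 2) (fun _ => mem_all) (by decide +kernel)

theorem m_m3 : gp mn 3 ∈ (cl (gp nets) L).map (MulAut.conj mpi.perm).toMonoidHom :=
  mem_conj_of_eqB (k := 15) (w := [5,6,5,7,6,5,8,9,8,64,6,5,7,6,9,8,64,6,5,7,6,9,8,64,6,5,7,6,9,64]) nets_ok (by norm_num) mpi_ok (mn_ok 3) (fun _ => mem_all) (by decide +kernel)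

theorem m_m4 : gp mn 4 ∈ (cl (gp nets) L).map (MulAut.conj mpi.perm).toMonoidHom :=
  mem_conj_of_eqB (k := 15) (w := (apd [64,6,5,7,6,9,64,6,5,7,9,4,5,6,7,8,4,9,64,6,9,8,4,1,3,4,5,6,7,64,6,9,8,4,3,5,4,6,64,6,5,9,2,3,4,5,6,7,64,6,9,8,4,3,5,6,64,9,8,10]
 [7,6,5,4,3,2,1,8,4,64,6,7,9,8,4,5,6,10,64,6,9])) nets_ok (by norm_num) mpi_ok (mn_ok 4) (fun _ => mem_all) (by decide +kernel)

theorem m_m5 : gp mn 5 ∈ (cl (gp nets) L).map (MulAut.conj mpi.perm).toMonoidHom :=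
  mem_conj_of_eqB (k := 15) (w := (apd [5,6,5,7,8,9,64,6,5,7,6,9,8,64,6,5,7,6,9,4,5,6,7,8,4,9,64,6,5,4,7,6,64,9,3,4,5,6,8,4,9,64,6,5,4,3,2,1,3,4,5,6,7,64,9,8,4,5,6,7]
 [64,6,10,7,6,5,4,3,8,4,5,6,9,8,4,5,64,6,7,10])) nets_ok (by norm_num) mpi_ok (mn_ok 5) (fun _ => mem_all) (by decide +kernel)

theorem m_m6 : gp mn 6 ∈ (cl (gp nets) L).map (MulAut.conj mpi.perm).toMonoidHom :=
  mem_conj_of_eqB (k := 15) (w := [9,4,8,2,3,4,5,8,9,64,6,7,10,7,6,5,4,3,8,64,9,8,4,3,2]) nets_ok (by norm_num) mpi_ok (mn_ok 6) (fun _ => mem_all) (by decide +kernel)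

theorem m_m7 : gp mn 7 ∈ (cl (gp nets) L).map (MulAut.conj mpi.perm).toMonoidHom :=
  mem_conj_of_eqB (k := 15) (w := [6,7,64,6,5,4,3,2,3,4,5,6,7,64,6]) nets_ok (by norm_num) mpi_ok (mn_ok 7) (fun _ => mem_all) (by decide +kernel)

theorem m_m8 : gp mn 8 ∈ (cl (gp nets) L).map (MulAut.conj mpi.perm).toMonoidHom :=
  mem_conj_of_eqB (k := 15) (w := (apd [6,7,8,9,8,64,6,9,8,64,9,4,5,6,7,8,4,9,64,6,5,4,3,4,5,8,9,64,6,5,4,3,7,6,5,64,6,7,2,1,3,4,5,6,7,8,4,9,64,6,5,4,3,2,7,6,8,10,7,6]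
 [5,4,3,2,1,8,4,9,8,64,6,5,4,3,7,6,5,8,4,5])) nets_ok (by norm_num) mpi_ok (mn_ok 8) (fun _ => mem_all) (by decide +kernel)

theorem m_m9 : gp mn 9 ∈ (cl (gp nets) L).map (MulAut.conj mpi.perm).toMonoidHom :=
  mem_conj_of_eqB (k := 15) (w := (apd [5,7,6,5,8,64,6,5,7,6,9,64,6,7,9,4,5,6,8,4,5,9,8,3,4,5,6,7,8,64,9,2,1,3,4,5,6,7,8,4,9,8,64,6,5,4,3,8,4,5,9,8,64,10,7,6,64,9,8,4]
 [3,2,5,4,3,6,7,8,4,5,9,64,6,5])) nets_ok (by norm_num) mpi_ok (mn_ok 9) (fun _ => mem_all) (by decide +kernel)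

theorem m_m10 : gp mn 10 ∈ (cl (gp nets) L).map (MulAut.conj mpi.perm).toMonoidHom :=
  mem_conj_of_eqB (k := 15) (w := [6,7,6,5,8,9,8,64,6,5,9,8,64,6,9,64,4,5,6,7,8,4,5,6,9,8,64,6,9,64,3,4,5,6,7,8,4,5,6,9,64,10,7,6,5,4,3,8,4,5,6,7,9,8,4,5,64,6,7,10]) nets_ok (by norm_num) mpi_ok (mn_ok 10) (fun _ => mem_all) (by decide +kernel)

theorem m_conj : cl (gp mn) mL ≤ (cl (gp nets) L).map (MulAut.conj mpi.perm).toMonoidHom :=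
  cl_le.2 (by simp only [mL, List.forall_mem_cons]; exact ⟨m_m1, m_m2, m_m3, m_m4, m_m5, m_m6, m_m7, m_m8, m_m9, m_m10, by simp⟩)

theorem m_ch : Nat.beq (chainB mn (([1,2,3,4,5,6,7,8,9],[10,2,3,4,5,7,8,6,9,2,8,4,3,5,9,6,10,8,2,5,1],0,0,31671) :: mC) mL) 4089470473293004800 = true := by decide +kernel

theorem m_ex : Exact mn (([1,2,3,4,5,6,7,8,9],[10,2,3,4,5,7,8,6,9,2,8,4,3,5,9,6,10,8,2,5,1],0,0,31671) :: mC) mL := by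
  have := nets_ok.finite L
  exact exact_of_beq ((card_le_of_conj m_conj).trans card.le) m_ch

theorem m_iso : Nonempty (cl (gp nets) L ≃* cl (gp mn) mL) := by
  have := nets_ok.finite L
  obtain ⟨φ, h1, h2⟩ := relabel (MulEquiv.refl _) _ m_conj (card.trans_le (lb_of_chainB mn_ok m_ch))
  exact ⟨(MonoidHom.ofInjective h1).trans (MulEquiv.subgroupCongr h2)⟩

noncomputable def mt : ℕ → ℕ → ℕ := tbx 32768 (tbk 15 4 prs15 mn 256)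

theorem mt_ok : TbA mn mt := tbA_tbx mn_ok (tbk_eq tr15 (by norm_num) (by norm_num) (by norm_num) mn_ok)

end Cfsg.Lib.Comp.Fi23
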