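import Cfsg.Agent.Lib.Comp.Fi23.Mx1

set_option maxRecDepth 100000
set_option Elab.async false

namespace Cfsg.Lib.Comp.Fi23

universe u

noncomputable def mW : List (ℕ × List (List ℕ)) := [(0,(apd [[],
 [10],
 [10,2],
 [10,4],
 [10,5],
 [10,7],
 [10,8],
 [10,9],
 [10,2,2],
 [10,2,4],
 [10,2,7],
 [10,2,8],
 [10,2,9],
 [10,2,10],
 [10,4,4],
 [10,4,7],
 [10,4,8],
 [10,4,9],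
 [10,4,10],
 [10,5,7],
 [10,5,8],
 [10,5,9],
 [10,5,10],
 [10,7,8],
 [10,7,9],
 [10,8,2],
 [10,8,4],
 [10,8,5],
 [10,8,8],
 [10,8,9],
 [10,8,10],
 [10,9,2],
 [10,9,4],
 [10,9,8],
 [10,9,9],
 [10,9,10],
 [10,2,2,4],
 [10,2,2,5],
 [10,2,2,7],
 [10,2,2,8]]
 (apd [[10,2,2,9],
 [10,2,2,10],
 [10,2,4,4],
 [10,2,4,5],
 [10,2,4,7],
 [10,2,4,9],
 [10,2,4,10],
 [10,2,7,8],
 [10,2,7,9],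
 [10,2,8,2],
 [10,2,8,4],
 [10,2,8,5],
 [10,2,8,8],
 [10,2,8,9],
 [10,2,8,10],
 [10,2,9,2],
 [10,2,9,4],
 [10,2,9,9],
 [10,2,10,5],
 [10,2,10,8],
 [10,4,4,4],
 [10,4,4,5],
 [10,4,4,7],
 [10,4,4,8],
 [10,4,4,9],
 [10,4,4,10],
 [10,4,7,8],
 [10,4,7,9],
 [10,4,8,2],
 [10,4,8,4],
 [10,4,8,5],
 [10,4,8,8],
 [10,4,8,9],
 [10,4,9,2],
 [10,4,9,5],
 [10,4,9,9],
 [10,4,9,10],
 [10,4,10,2],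
 [10,4,10,4],
 [10,4,10,5]]
 (apd [[10,4,10,9],
 [10,5,7,8],
 [10,5,7,9],
 [10,5,8,2],
 [10,5,8,4],
 [10,5,8,5],
 [10,5,8,8],
 [10,5,8,9],
 [10,5,8,10],
 [10,5,9,2],
 [10,5,9,4],
 [10,5,9,5],
 [10,5,9,8],
 [10,5,9,9],
 [10,5,9,10],
 [10,5,10,9],
 [10,7,8,2],
 [10,7,8,8],
 [10,7,8,9],
 [10,7,8,10],
 [10,7,9,2],
 [10,7,9,4],
 [10,7,9,8],
 [10,7,9,9],
 [10,7,9,10],
 [10,8,2,2],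
 [10,8,2,4],
 [10,8,2,5],
 [10,8,2,8],
 [10,8,4,5],
 [10,8,4,8],
 [10,8,4,10],
 [10,8,5,2],
 [10,8,5,4],
 [10,8,5,9],
 [10,8,5,10],
 [10,8,8,8],
 [10,8,8,9],
 [10,8,9,2],
 [10,8,9,5]]
 (apd [[10,8,9,8],
 [10,8,9,9],
 [10,8,9,10],
 [10,8,10,5],
 [10,8,10,7],
 [10,9,2,4],
 [10,9,2,5],
 [10,9,2,9],
 [10,9,2,10],
 [10,9,4,2],
 [10,9,4,4],
 [10,9,4,5],
 [10,9,4,8],
 [10,9,4,9],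
 [10,9,4,10],
 [10,9,8,2],
 [10,9,8,5],
 [10,9,8,8],
 [10,9,8,10],
 [10,9,9,2],
 [10,9,9,4],
 [10,9,9,8],
 [10,9,10,2],
 [10,9,10,4],
 [10,9,10,8],
 [10,9,10,9],
 [10,2,2,4,4],
 [10,2,2,4,7],
 [10,2,2,4,8],
 [10,2,2,4,9],
 [10,2,2,5,4],
 [10,2,2,5,7],
 [10,2,2,5,8],
 [10,2,2,5,10],
 [10,2,2,7,8],
 [10,2,2,7,9],
 [10,2,2,8,2],
 [10,2,2,8,5],
 [10,2,2,8,8],
 [10,2,2,8,10]]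
 (apd [[10,2,2,9,4],
 [10,2,2,9,8],
 [10,2,2,9,9],
 [10,2,2,10,5],
 [10,2,2,10,8],
 [10,2,4,4,5],
 [10,2,4,4,7],
 [10,2,4,4,9],
 [10,2,4,5,7],
 [10,2,4,5,8],
 [10,2,4,5,10],
 [10,2,4,7,9],
 [10,2,4,9,2],
 [10,2,4,9,8],
 [10,2,4,10,9],
 [10,2,7,8,2],
 [10,2,7,8,8],
 [10,2,7,8,10],
 [10,2,7,9,2],
 [10,2,7,9,9],
 [10,2,7,9,10],
 [10,2,8,2,2],
 [10,2,8,2,4],
 [10,2,8,2,5],
 [10,2,8,4,4],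
 [10,2,8,4,5],
 [10,2,8,4,8],
 [10,2,8,5,2],
 [10,2,8,5,4],
 [10,2,8,5,10],
 [10,2,8,8,5],
 [10,2,8,8,8],
 [10,2,8,9,2],
 [10,2,8,9,8],
 [10,2,8,9,9],
 [10,2,8,10,4],
 [10,2,8,10,7],
 [10,2,9,2,4],
 [10,2,9,2,8],
 [10,2,9,4,2]]
 (apd [[10,2,9,4,10],
 [10,2,9,9,4],
 [10,2,10,8,10],
 [10,4,4,4,7],
 [10,4,4,4,10],
 [10,4,4,5,7],
 [10,4,4,5,8],
 [10,4,4,5,10],
 [10,4,4,7,9],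
 [10,4,4,8,5],
 [10,4,4,8,8],
 [10,4,4,8,10],
 [10,4,4,9,4],
 [10,4,4,9,5],
 [10,4,4,9,9],
 [10,4,7,8,2],
 [10,4,7,8,8],
 [10,4,7,9,5],
 [10,4,7,9,9],
 [10,4,8,2,5],
 [10,4,8,2,9],
 [10,4,8,2,10],
 [10,4,8,4,2],
 [10,4,8,4,5],
 [10,4,8,4,8],
 [10,4,8,4,9],
 [10,4,8,5,8],
 [10,4,8,5,9],
 [10,4,8,8,2],
 [10,4,8,8,5],
 [10,4,8,9,10],
 [10,4,9,2,2],
 [10,4,9,2,4],
 [10,4,9,2,9],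
 [10,4,9,5,8],
 [10,4,9,9,4],
 [10,4,9,10,4],
 [10,4,9,10,8],
 [10,4,10,2,9],
 [10,4,10,4,9]]
 (apd [[10,4,10,5,9],
 [10,4,10,9,2],
 [10,4,10,9,4],
 [10,4,10,9,5],
 [10,4,10,9,9],
 [10,5,7,8,2],
 [10,5,7,8,8],
 [10,5,7,8,9],
 [10,5,7,8,10],
 [10,5,7,9,4],
 [10,5,7,9,5],
 [10,5,8,2,2],
 [10,5,8,2,9],
 [10,5,8,4,2],
 [10,5,8,4,8],
 [10,5,8,4,9],
 [10,5,8,5,8],
 [10,5,8,5,9],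
 [10,5,8,9,5],
 [10,5,8,10,4],
 [10,5,8,10,9],
 [10,5,9,2,2],
 [10,5,9,2,8],
 [10,5,9,4,4],
 [10,5,9,4,5],
 [10,5,9,10,8],
 [10,5,10,9,4],
 [10,5,10,9,5],
 [10,7,8,8,8],
 [10,7,8,8,10],
 [10,7,8,10,4],
 [10,7,9,2,5],
 [10,7,9,4,10],
 [10,7,9,8,2],
 [10,7,9,8,10],
 [10,7,9,10,4],
 [10,8,2,2,4],
 [10,8,2,2,9],
 [10,8,2,5,2],
 [10,8,2,5,4]]
 (apd [[10,8,2,8,9],
 [10,8,2,8,10],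
 [10,8,4,5,2],
 [10,8,4,5,9],
 [10,8,4,5,10],
 [10,8,4,8,2],
 [10,8,4,8,8],
 [10,8,4,10,8],
 [10,8,5,2,9],
 [10,8,5,4,4],
 [10,8,5,4,9],
 [10,8,9,2,2],
 [10,8,9,9,4],
 [10,8,10,5,7],
 [10,8,10,5,8],
 [10,9,2,10,8],
 [10,9,4,2,2],
 [10,9,4,2,10],
 [10,9,4,5,4],
 [10,9,4,5,8],
 [10,9,4,10,7],
 [10,9,8,2,5],
 [10,9,8,5,8],
 [10,9,9,2,5],
 [10,9,10,4,8],
 [10,9,10,9,8],
 [10,2,2,4,8,9],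
 [10,2,2,5,8,8],
 [10,2,2,8,5,9],
 [10,2,2,9,9,4],
 [10,2,4,9,2,8],
 [10,2,4,10,9,4],
 [10,2,7,8,8,8],
 [10,2,7,8,10,7],
 [10,2,7,9,2,8],
 [10,2,7,9,10,5],
 [10,2,9,4,2,5],
 [10,2,10,8,10,7],
 [10,4,4,5,8,8],
 [10,4,4,5,10,9]]
 [[10,4,7,8,8,10],
 [10,4,8,2,9,10],
 [10,4,9,2,9,4],
 [10,4,10,2,9,5]]))))))))),
 (1,[[],
 [9],
 [9,4],
 [9,5],
 [9,8],
 [9,9],
 [9,4,2],
 [9,4,4],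
 [9,4,5],
 [9,4,9],
 [9,5,8],
 [9,5,9],
 [9,8,2],
 [9,8,5],
 [9,9,4],
 [9,9,5],
 [9,4,2,4],
 [9,4,2,8],
 [9,4,2,9],
 [9,4,9,2],
 [9,4,9,8],
 [9,5,8,8],
 [9,5,8,9],
 [9,5,9,8],
 [9,9,4,4],
 [9,9,5,8],
 [9,4,2,8,9]]),
 (3511,(apd [[],
 [7],
 [8],
 [7,8],
 [8,2],
 [8,4],
 [8,5],
 [8,8],
 [7,8,2],
 [7,8,4],
 [7,8,5],
 [7,8,8],
 [8,2,2],
 [8,2,4],
 [8,2,5],
 [8,2,8],
 [8,4,2],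
 [8,4,4],
 [8,4,5],
 [8,4,8],
 [8,5,2],
 [8,5,4],
 [8,5,8],
 [8,8,2],
 [8,8,4],
 [8,8,5],
 [8,8,8],
 [7,8,2,2],
 [7,8,2,4],
 [7,8,2,5],
 [7,8,2,8],
 [7,8,4,2],
 [7,8,4,4],
 [7,8,4,5],
 [7,8,5,2],
 [7,8,5,4],
 [7,8,5,8],
 [7,8,8,2],
 [7,8,8,4],
 [7,8,8,8]]
 (apd [[8,2,2,4],
 [8,2,2,5],
 [8,2,2,8],
 [8,2,4,2],
 [8,2,4,4],
 [8,2,4,5],
 [8,2,4,8],
 [8,2,5,2],
 [8,2,5,4],
 [8,2,5,8],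
 [8,2,8,2],
 [8,2,8,4],
 [8,2,8,5],
 [8,2,8,8],
 [8,4,2,2],
 [8,4,2,4],
 [8,4,2,5],
 [8,4,2,8],
 [8,4,4,2],
 [8,4,4,4],
 [8,4,4,5],
 [8,4,4,8],
 [8,4,5,2],
 [8,4,5,8],
 [8,4,8,8],
 [8,5,2,2],
 [8,5,2,4],
 [8,5,2,5],
 [8,5,2,8],
 [8,5,4,2],
 [8,5,4,4],
 [8,5,4,5],
 [8,5,4,8],
 [8,5,8,2],
 [8,5,8,8],
 [8,8,2,2],
 [8,8,2,4],
 [8,8,4,4],
 [8,8,4,8],
 [8,8,5,8]]
 (apd [[8,8,8,2],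
 [8,8,8,4],
 [8,8,8,5],
 [7,8,2,2,4],
 [7,8,2,2,5],
 [7,8,2,2,8],
 [7,8,2,4,2],
 [7,8,2,4,4],
 [7,8,2,4,5],
 [7,8,2,4,8],
 [7,8,2,5,4],
 [7,8,2,5,8],
 [7,8,2,8,2],
 [7,8,2,8,4],
 [7,8,2,8,5],
 [7,8,2,8,8],
 [7,8,4,2,2],
 [7,8,4,2,4],
 [7,8,4,2,5],
 [7,8,4,2,8],
 [7,8,4,4,2],
 [7,8,4,4,4],
 [7,8,4,4,8],
 [7,8,4,5,2],
 [7,8,4,5,8],
 [7,8,5,2,2],
 [7,8,5,2,5],
 [7,8,5,4,2],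
 [7,8,5,4,4],
 [7,8,5,4,5],
 [7,8,5,4,8],
 [7,8,5,8,2],
 [7,8,5,8,8],
 [7,8,8,2,2],
 [7,8,8,2,4],
 [7,8,8,4,4],
 [7,8,8,4,8],
 [7,8,8,8,2],
 [7,8,8,8,4],
 [7,8,8,8,5]]
 (apd [[8,2,2,4,2],
 [8,2,2,4,8],
 [8,2,2,5,2],
 [8,2,2,5,4],
 [8,2,4,2,2],
 [8,2,4,2,4],
 [8,2,4,4,4],
 [8,2,4,4,8],
 [8,2,4,5,2],
 [8,2,4,5,8],
 [8,2,4,8,4],
 [8,2,4,8,5],
 [8,2,4,8,8],
 [8,2,5,2,2],
 [8,2,5,2,4],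
 [8,2,5,2,5],
 [8,2,5,4,4],
 [8,2,5,4,8],
 [8,2,5,8,5],
 [8,2,8,2,2],
 [8,2,8,2,5],
 [8,2,8,2,8],
 [8,2,8,4,2],
 [8,2,8,4,4],
 [8,2,8,4,5],
 [8,2,8,5,4],
 [8,2,8,5,8],
 [8,2,8,8,4],
 [8,2,8,8,5],
 [8,4,2,2,5],
 [8,4,2,4,2],
 [8,4,2,4,5],
 [8,4,2,5,4],
 [8,4,2,5,8],
 [8,4,2,8,2],
 [8,4,2,8,5],
 [8,4,2,8,8],
 [8,4,4,2,2],
 [8,4,4,2,4],
 [8,4,4,4,4]]
 (apd [[8,4,4,4,8],
 [8,4,4,5,2],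
 [8,4,4,8,4],
 [8,4,4,8,5],
 [8,4,5,2,2],
 [8,4,5,2,4],
 [8,4,5,8,2],
 [8,4,8,8,2],
 [8,4,8,8,4],
 [8,4,8,8,8],
 [8,5,2,2,8],
 [8,5,2,4,4],
 [8,5,2,4,8],
 [8,5,2,5,4],
 [8,5,2,5,8],
 [8,5,2,8,2],
 [8,5,2,8,4],
 [8,5,2,8,5],
 [8,5,4,2,5],
 [8,5,4,2,8],
 [8,5,4,4,2],
 [8,5,4,8,2],
 [8,5,8,2,2],
 [8,5,8,2,8],
 [8,5,8,8,2],
 [8,8,2,2,8],
 [8,8,2,4,4],
 [8,8,2,4,5],
 [8,8,4,4,4],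
 [8,8,4,4,5],
 [8,8,4,8,4],
 [8,8,4,8,5],
 [8,8,4,8,8],
 [8,8,5,8,2],
 [8,8,5,8,4],
 [8,8,5,8,8],
 [8,8,8,4,4],
 [8,8,8,4,8],
 [8,8,8,5,2],
 [7,8,2,2,4,2]]
 (apd [[7,8,2,4,2,2],
 [7,8,2,4,4,4],
 [7,8,2,4,5,2],
 [7,8,2,4,5,8],
 [7,8,2,4,8,5],
 [7,8,2,4,8,8],
 [7,8,2,5,4,4],
 [7,8,2,5,4,8],
 [7,8,2,5,8,5],
 [7,8,2,8,2,2],
 [7,8,2,8,2,8],
 [7,8,2,8,4,2],
 [7,8,2,8,4,5],
 [7,8,2,8,5,4],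
 [7,8,2,8,5,8],
 [7,8,2,8,8,5],
 [7,8,4,2,4,2],
 [7,8,4,2,5,4],
 [7,8,4,2,5,8],
 [7,8,4,2,8,2],
 [7,8,4,2,8,8],
 [7,8,4,4,2,2],
 [7,8,4,4,4,4],
 [7,8,4,4,8,4],
 [7,8,4,5,2,4],
 [7,8,4,5,8,2],
 [7,8,5,2,2,8],
 [7,8,5,2,5,4],
 [7,8,5,2,5,8],
 [7,8,5,4,2,5],
 [7,8,5,4,2,8],
 [7,8,5,4,8,2],
 [7,8,5,8,2,2],
 [7,8,5,8,2,8],
 [7,8,8,2,4,4],
 [7,8,8,2,4,5],
 [7,8,8,4,4,4],
 [7,8,8,4,4,5],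
 [7,8,8,4,8,4],
 [7,8,8,4,8,5]]
 (apd [[7,8,8,4,8,8],
 [7,8,8,8,4,4],
 [7,8,8,8,4,8],
 [7,8,8,8,5,2],
 [8,2,2,4,2,2],
 [8,2,2,4,2,8],
 [8,2,2,5,4,4],
 [8,2,4,4,4,4],
 [8,2,4,5,2,4],
 [8,2,4,5,2,5],
 [8,2,4,5,8,4],
 [8,2,4,8,4,2],
 [8,2,5,2,2,5],
 [8,2,5,2,5,2],
 [8,2,5,4,4,8],
 [8,2,5,4,8,2],
 [8,2,8,2,2,5],
 [8,2,8,2,5,4],
 [8,2,8,2,8,5],
 [8,2,8,4,2,8],
 [8,4,2,2,5,2],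
 [8,4,2,2,5,4],
 [8,4,2,2,5,8],
 [8,4,2,5,4,8],
 [8,4,2,5,8,4],
 [8,4,2,8,2,8],
 [8,4,4,4,4,8],
 [8,4,5,2,2,8],
 [8,4,5,2,4,5],
 [8,4,5,2,4,8],
 [8,4,5,8,2,8],
 [8,4,8,8,4,8],
 [8,5,2,4,8,8],
 [8,5,2,5,8,8],
 [8,5,2,8,2,5],
 [8,5,4,2,5,4],
 [8,5,8,2,8,2],
 [8,5,8,2,8,4],
 [8,8,2,2,8,8],
 [8,8,2,4,4,5]]
 [[8,8,4,8,8,2],
 [8,8,5,8,2,5],
 [8,8,8,4,4,8],
 [8,8,8,4,8,2],
 [7,8,2,8,2,2,5],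
 [7,8,4,2,5,4,8],
 [7,8,8,2,4,4,5],
 [7,8,8,8,4,4,8]])))))))),
 (695,[[],
 [5],
 [5,2],
 [5,4],
 [5,2,2],
 [5,2,4],
 [5,4,2],
 [5,4,2,5]]),
 (4145,[[],
 [4],
 [4,2],
 [4,4],
 [4,2,2],
 [4,2,4],
 [4,4,4],
 [4,2,2,4],
 [4,2,4,4],
 [4,4,4,4],
 [4,2,2,4,4],
 [4,2,4,4,4],
 [4,4,4,4,2],
 [4,4,4,4,4],
 [4,2,4,4,4,4],
 [4,4,4,4,2,4],
 [4,2,4,4,4,4,4],
 [4,4,4,4,2,4,4]]),
 (15031,[[],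
 [2],
 [2,2]]),
 (2,[[],
 [1],
 [1,1]])]

theorem m_lb : 2 ^ 11 * 3 ^ 13 ≤ Nat.card (cl (gp mn) mH) := by
  have := mn_ok.finite mH
  exact le_trans (by decide +kernel) (lb_of_twB mt_ok (C := mW) (by decide +kernel))

noncomputable def mF : List ℕ := (apd [0,1,173,174,175,176,177,178,185,186,187,191,192,193,197,198,199,203,204,205,695,696,703,704,705,709,710,711,3511,3512,3513,3514,3623,3624,3625,3626,3627,3628,3635,3636,3637,3641,3642,3643,3647,3648,3649,3653,3654,3655,4145,4146,4147,4148,4149,4150,4157,4158,4159,4163]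
 (apd [4164,4165,4169,4170,4171,4175,4176,4177,4775,4776,4783,4784,4785,4795,4796,4797,7015,7016,7017,7018,7019,7035,7036,7037,9255,9256,9257,9258,9259,9263,9264,9265,11495,11496,11509,11510,11511,11515,11516,11517,15031,15032,15033,15037,15038,15039,15043,15044,15045,15049,15050,15051,15055,15056,15057,15061,15062,15063,15067,15068]
 (apd [15069,15073,15074,15075,15079,15080,15081,15085,15086,15087,15091,15092,15093,15097,15098,15099,15103,15104,15105,15109,15110,15111,15115,15116,15117,15121,15122,15123,15127,15128,15129,15133,15134,15135,15247,15248,15249,15253,15254,15255,15259,15260,15261,15265,15266,15267,15271,15272,15273,15277,15278,15279,15283,15284,15285,15289,15290,15291,15295,15296]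
 (apd [15297,15301,15302,15303,15307,15308,15309,15313,15314,15315,15319,15320,15321,15325,15326,15327,15331,15332,15333,15337,15338,15339,15343,15344,15345,15349,15350,15351,15463,15464,15465,15469,15470,15471,15475,15476,15477,15481,15482,15483,15487,15488,15489,15493,15494,15495,15499,15500,15501,15505,15506,15507,15511,15512,15513,15517,15518,15519,15523,15524]
 (apd [15525,15529,15530,15531,15535,15536,15537,15541,15542,15543,15547,15548,15549,15553,15554,15555,15559,15560,15561,15565,15566,15567,15679,15680,15681,15685,15686,15687,15691,15692,15693,15697,15698,15699,15703,15704,15705,15709,15710,15711,15715,15716,15717,15721,15722,15723,15727,15728,15729,15733,15734,15735,15739,15740,15741,15745,15746,15747,15751,15752]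
 [15753,15757,15758,15759,15763,15764,15765,15769,15770,15771,15775,15776,15777,15781,15782,15783,29431,29432,29439,29440,29441,29445,29446,29447])))))

theorem m_cen : cenN mF (([1,2,3,4,5,6,7,8,9],[10,2,3,4,5,7,8,6,9,2,8,4,3,5,9,6,10,8,2,5,1],0,0,31671) :: mC) ≤ 2 ^ 11 * 3 ^ 13 := by decide +kernel

theorem m_max {K : Subgroup (Equiv.Perm ℕ)} (h1 : cl (gp mn) mH ≤ K) (h2 : K ≤ cl (gp mn) mL) :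
    K = cl (gp mn) mH ∨ K = cl (gp mn) mL := by
  obtain ⟨e⟩ := m_iso
  have := simple
  exact max_of_mxB mn_ok mt_ok m_ex e.symm.isSimpleGroup (F := mF) (o1 := [10,2,4,5,7,8,9,2,8,10,4,9])
    (o2 := [1,4,8,9,10,5,2,8,9,4,10,2,8,9,7,4,5,2,1])
    (t := 7) (q := 3511) (R := [(2,3,[10,3,7,10],[10,2,4,5,7,8,9,3,2,8,4,9,3,5,8,9,10,3,4,8,9,5,1]),
 (33,6,[10,6,7,10],[10,2,4,5,7,8,9,6,2,8,4,6,9,1,2,8,4,10,6,5,2,4])])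
    (by decide +kernel) (m_cen.trans m_lb) h1 h2

theorem m_card : Nat.card (cl (gp mn) mH) = 2 ^ 11 * 3 ^ 13 := by
  have := card_inf_le mn_ok (S := cl (gp mn) mH) (F := mF) (fun s hs q hq _ => testBit_msk.1 ((invB_sound mn_ok
    (by decide +kernel : invB mn mH (msk mF) = true) hs q).trans (testBit_msk.2 hq))) m_ex
  rw [inf_eq_right.2 (cl_mono (sub_of_subB (by decide +kernel)))] at this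
  exact le_antisymm (this.trans m_cen) m_lb

end Cfsg.Lib.Comp.Fi23
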