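import Cfsg.Agent.Lib.Comp.Fi23.Mx2

set_option maxRecDepth 100000
set_option Elab.async false

namespace Cfsg.Lib.Comp.Fi23

universe u

def mV : List (List ℕ × List ℕ) := [([9],[9,9]),
 ([4],[4,4,4,4,4]),
 ([10],[10]),
 ([7],[7]),
 ([5],[5]),
 ([2],[2,2]),
 ([8],[8,8,8])]

def mT : List (List (ℕ × ℕ)) := [[(0,1),
 (2,1)],
 [(0,1),
 (2,1),
 (3,1)],
 [(0,1),
 (2,1),
 (3,1),
 (4,5)],
 [(0,1),
 (2,3),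
 (0,4),
 (1,5),
 (0,3),
 (6,1)],
 [(0,1),
 (2,3),
 (4,5),
 (2,1),
 (6,5),
 (6,0),
 (6,2)],
 [(0,1),
 (2,3),
 (2,1),
 (0,4),
 (1,3),
 (4,5),
 (6,3)],
 [(0,1),
 (2,3),
 (0,4),
 (5,4),
 (6,4),
 (3,6),
 (2,5)],
 [(0,1),
 (2,3),
 (0,4),
 (0,5),
 (0,6),
 (0,2),
 (1,5)]]

theorem m_d1 : dap mt mV mT 0 true 2 = 3232 := by decide +kernel

theorem m_d2 : dap mt mV mT 1 true 3232 = 181 := by decide +kernel

end Cfsg.Lib.Comp.Fi23
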