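import Cfsg.Agent.Lib.Comp.Fi23.Mx3

set_option maxRecDepth 100000
set_option Elab.async false

namespace Cfsg.Lib.Comp.Fi23

universe u

theorem m_d3 : dap mt mV mT 0 false 181 = 2938 := by decide +kernel

theorem m_d4 : dap mt mV mT 1 false 2938 = 4 := by decide +kernel

theorem m_der {H : Type*} [Group H] {ψ : H →* Equiv.Perm ℕ} (hψ : ψ.range = cl (gp mn) mH) : derivedSeries H 9 ≠ ⊥ := fun e => by
  have hW : ∀ w ∈ mV, ev (gp mn) w.1 ∈ ψ.range ∧ ev (gp mn) w.1 * ev (gp mn) w.2 = 1 := fun w hw => by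
    have := allL_iff.1 (show allL mV (fun w => cnd (subB w.1 mH) (eqP mt (bases (([1,2,3,4,5,6,7,8,9],[10,2,3,4,5,7,8,6,9,2,8,4,3,5,9,6,10,8,2,5,1],0,0,31671) :: mC)) mL (apd w.1 w.2) 1 []) false) = true by
      decide +kernel) w hw
    rw [cnd_tt] at this
    exact ⟨hψ ▸ ev_mem fun x hx => mem_cl (sub_of_subB this.1 x hx), by
      simpa [apd_eq, ev_append, ev_nil] using m_ex.eq mn_ok mt_ok this.2⟩
  obtain ⟨a, ha, e1⟩ := dap_sound mt_ok hW mT 0
  obtain ⟨c, hc, e2⟩ := dap_sound mt_ok hW mT 1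
  have h := Subgroup.mem_bot.1 (e.le (Subgroup.commutator_mem_commutator ha hc))
  have h1 := m_d1
  have h2 := m_d2
  have h3 := m_d3
  have h4 := m_d4
  rw [(e1 _).1] at h1
  rw [(e2 _).1, ← h1] at h2
  rw [(e1 _).2, ← h2] at h3
  rw [(e2 _).2, ← h3] at h4
  simp only [← Equiv.Perm.mul_apply, ← map_inv, ← map_mul] at h4
  rw [← mul_assoc, ← mul_assoc, ← commutatorElement_def, ← commutatorElement_inv, h, inv_one, map_one] at h4
  exact absurd h4 (by decide)

end Cfsg.Lib.Comp.Fi23
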