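import Cfsg.Agent.Lib.Comp.Fi23.Perm0

set_option maxRecDepth 100000

namespace Cfsg.Lib.Comp.Fi23

universe u

theorem nets_r0_0 : eqB 32768 15 0 15 nets [1] 1 [] = true := by decide +kernel

theorem nets_r1_0 : eqB 32768 15 0 15 nets [2] 1 [] = true := by decide +kernel

theorem nets_r2_0 : eqB 32768 15 0 15 nets [3] 1 [] = true := by decide +kernel

theorem nets_r3_0 : eqB 32768 15 0 15 nets [4] 1 [] = true := by decide +kernel

theorem nets_r4_0 : eqB 32768 15 0 15 nets [5] 1 [] = true := by decide +kernel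

theorem nets_r5_0 : eqB 32768 15 0 15 nets [6] 1 [] = true := by decide +kernel

theorem nets_r6_0 : eqB 32768 15 0 15 nets [7] 1 [] = true := by decide +kernel

theorem nets_r7_0 : eqB 32768 15 0 15 nets [8] 1 [] = true := by decide +kernel

theorem nets_r8_0 : eqB 32768 15 0 15 nets [9] 1 [] = true := by decide +kernel

theorem nets_r9_0 : eqB 32768 15 0 15 nets [10] 1 [] = true := by decide +kernel

theorem nets_r10_0 : eqB 32768 15 0 15 nets [1,2] 2 [] = true := by decide +kernel

theorem nets_r11_0 : eqB 32768 15 0 15 nets [1,3] 1 [] = true := by decide +kernel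

theorem nets_r12_0 : eqB 32768 15 0 15 nets [1,4] 1 [] = true := by decide +kernel

theorem nets_r13_0 : eqB 32768 15 0 15 nets [1,5] 1 [] = true := by decide +kernel

theorem nets_r14_0 : eqB 32768 15 0 15 nets [1,6] 1 [] = true := by decide +kernel

theorem nets_r15_0 : eqB 32768 15 0 15 nets [1,7] 1 [] = true := by decide +kernel

theorem nets_r16_0 : eqB 32768 15 0 15 nets [1,8] 1 [] = true := by decide +kernel

theorem nets_r17_0 : eqB 32768 15 0 15 nets [1,9] 1 [] = true := by decide +kernel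

theorem nets_r18_0 : eqB 32768 15 0 15 nets [1,10] 1 [] = true := by decide +kernel

theorem nets_r19_0 : eqB 32768 15 0 15 nets [2,3] 2 [] = true := by decide +kernel

theorem nets_r20_0 : eqB 32768 15 0 15 nets [2,4] 1 [] = true := by decide +kernel

theorem nets_r21_0 : eqB 32768 15 0 15 nets [2,5] 1 [] = true := by decide +kernel

theorem nets_r22_0 : eqB 32768 15 0 15 nets [2,6] 1 [] = true := by decide +kernel

theorem nets_r23_0 : eqB 32768 15 0 15 nets [2,7] 1 [] = true := by decide +kernel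

theorem nets_r24_0 : eqB 32768 15 0 15 nets [2,8] 1 [] = true := by decide +kernel

theorem nets_r25_0 : eqB 32768 15 0 15 nets [2,9] 1 [] = true := by decide +kernel

theorem nets_r26_0 : eqB 32768 15 0 15 nets [2,10] 1 [] = true := by decide +kernel

theorem nets_r27_0 : eqB 32768 15 0 15 nets [3,4] 2 [] = true := by decide +kernel

theorem nets_r28_0 : eqB 32768 15 0 15 nets [3,5] 1 [] = true := by decide +kernel

theorem nets_r29_0 : eqB 32768 15 0 15 nets [3,6] 1 [] = true := by decide +kernel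

theorem nets_r30_0 : eqB 32768 15 0 15 nets [3,7] 1 [] = true := by decide +kernel

theorem nets_r31_0 : eqB 32768 15 0 15 nets [3,8] 1 [] = true := by decide +kernel

theorem nets_r32_0 : eqB 32768 15 0 15 nets [3,9] 1 [] = true := by decide +kernel

theorem nets_r33_0 : eqB 32768 15 0 15 nets [3,10] 1 [] = true := by decide +kernel

theorem nets_r34_0 : eqB 32768 15 0 15 nets [4,5] 2 [] = true := by decide +kernel

theorem nets_r35_0 : eqB 32768 15 0 15 nets [4,6] 1 [] = true := by decide +kernel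

theorem nets_r36_0 : eqB 32768 15 0 15 nets [4,7] 1 [] = true := by decide +kernel

theorem nets_r37_0 : eqB 32768 15 0 15 nets [4,8] 2 [] = true := by decide +kernel

theorem nets_r38_0 : eqB 32768 15 0 15 nets [4,9] 1 [] = true := by decide +kernel

theorem nets_r39_0 : eqB 32768 15 0 15 nets [4,10] 1 [] = true := by decide +kernel

theorem nets_r40_0 : eqB 32768 15 0 15 nets [5,6] 2 [] = true := by decide +kernel

theorem nets_r41_0 : eqB 32768 15 0 15 nets [5,7] 1 [] = true := by decide +kernel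

theorem nets_r42_0 : eqB 32768 15 0 15 nets [5,8] 1 [] = true := by decide +kernel

theorem nets_r43_0 : eqB 32768 15 0 15 nets [5,9] 1 [] = true := by decide +kernel

theorem nets_r44_0 : eqB 32768 15 0 15 nets [5,10] 1 [] = true := by decide +kernel

theorem nets_r45_0 : eqB 32768 15 0 15 nets [6,7] 2 [] = true := by decide +kernel

theorem nets_r46_0 : eqB 32768 15 0 15 nets [6,8] 1 [] = true := by decide +kernel

theorem nets_r47_0 : eqB 32768 15 0 15 nets [6,9] 1 [] = true := by decide +kernel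

theorem nets_r48_0 : eqB 32768 15 0 15 nets [6,10] 1 [] = true := by decide +kernel

theorem nets_r49_0 : eqB 32768 15 0 15 nets [7,8] 1 [] = true := by decide +kernel

theorem nets_r50_0 : eqB 32768 15 0 15 nets [7,9] 1 [] = true := by decide +kernel

theorem nets_r51_0 : eqB 32768 15 0 15 nets [7,10] 2 [] = true := by decide +kernel

theorem nets_r52_0 : eqB 32768 15 0 15 nets [8,9] 2 [] = true := by decide +kernel

theorem nets_r53_0 : eqB 32768 15 0 15 nets [8,10] 1 [] = true := by decide +kernel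

theorem nets_r54_0 : eqB 32768 15 0 15 nets [9,10] 1 [] = true := by decide +kernel

theorem nets_r55_0 : eqB 32768 15 0 15 nets [4,3,2,4,5,6,4,8,9] 9 [] = true := by decide +kernel

theorem nets_r56_0 : eqB 32768 15 0 15 nets [1,2,3,4,5,6,8] 8 [] = true := by decide +kernel

theorem nets_rel : Rels (gp nets) R := by
  unfold R
  simp only [apd_eq]
  intro r hr
  simp only [List.mem_append, List.mem_cons, List.not_mem_nil, or_false, or_assoc] at hr
  rcases hr with rfl | rfl | rfl | rfl | rfl | rfl | rfl | rfl | rfl | rfl | rfl | rfl | rfl | rfl | rfl | rfl | rfl | rfl | rfl | rfl | rfl | rfl | rfl | rfl | rfl | rfl | rfl | rfl | rfl | rfl | rfl | rfl | rfl | rfl | rfl | rfl | rfl | rfl | rfl | rfl | rfl | rfl | rfl | rfl | rfl | rfl | rfl | rfl | rfl | rfl | rfl | rfl | rfl | rfl | rfl | rfl | rfl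
  · exact AgreeBits.eq (k := 15) (agree_of_eqB nets_ok (by norm_num) nets_r0_0) (by norm_num) ((fx_ev nets_ok.fx _).pow _) (Fx.one _)
  · exact AgreeBits.eq (k := 15) (agree_of_eqB nets_ok (by norm_num) nets_r1_0) (by norm_num) ((fx_ev nets_ok.fx _).pow _) (Fx.one _)
  · exact AgreeBits.eq (k := 15) (agree_of_eqB nets_ok (by norm_num) nets_r2_0) (by norm_num) ((fx_ev nets_ok.fx _).pow _) (Fx.one _)
  · exact AgreeBits.eq (k := 15) (agree_of_eqB nets_ok (by norm_num) nets_r3_0) (by norm_num) ((fx_ev nets_ok.fx _).pow _) (Fx.one _)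
  · exact AgreeBits.eq (k := 15) (agree_of_eqB nets_ok (by norm_num) nets_r4_0) (by norm_num) ((fx_ev nets_ok.fx _).pow _) (Fx.one _)
  · exact AgreeBits.eq (k := 15) (agree_of_eqB nets_ok (by norm_num) nets_r5_0) (by norm_num) ((fx_ev nets_ok.fx _).pow _) (Fx.one _)
  · exact AgreeBits.eq (k := 15) (agree_of_eqB nets_ok (by norm_num) nets_r6_0) (by norm_num) ((fx_ev nets_ok.fx _).pow _) (Fx.one _)
  · exact AgreeBits.eq (k := 15) (agree_of_eqB nets_ok (by norm_num) nets_r7_0) (by norm_num) ((fx_ev nets_ok.fx _).pow _) (Fx.one _)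
  · exact AgreeBits.eq (k := 15) (agree_of_eqB nets_ok (by norm_num) nets_r8_0) (by norm_num) ((fx_ev nets_ok.fx _).pow _) (Fx.one _)
  · exact AgreeBits.eq (k := 15) (agree_of_eqB nets_ok (by norm_num) nets_r9_0) (by norm_num) ((fx_ev nets_ok.fx _).pow _) (Fx.one _)
  · exact AgreeBits.eq (k := 15) (agree_of_eqB nets_ok (by norm_num) nets_r10_0) (by norm_num) ((fx_ev nets_ok.fx _).pow _) (Fx.one _)
  · exact AgreeBits.eq (k := 15) (agree_of_eqB nets_ok (by norm_num) nets_r11_0) (by norm_num) ((fx_ev nets_ok.fx _).pow _) (Fx.one _)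
  · exact AgreeBits.eq (k := 15) (agree_of_eqB nets_ok (by norm_num) nets_r12_0) (by norm_num) ((fx_ev nets_ok.fx _).pow _) (Fx.one _)
  · exact AgreeBits.eq (k := 15) (agree_of_eqB nets_ok (by norm_num) nets_r13_0) (by norm_num) ((fx_ev nets_ok.fx _).pow _) (Fx.one _)
  · exact AgreeBits.eq (k := 15) (agree_of_eqB nets_ok (by norm_num) nets_r14_0) (by norm_num) ((fx_ev nets_ok.fx _).pow _) (Fx.one _)
  · exact AgreeBits.eq (k := 15) (agree_of_eqB nets_ok (by norm_num) nets_r15_0) (by norm_num) ((fx_ev nets_ok.fx _).pow _) (Fx.one _)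
  · exact AgreeBits.eq (k := 15) (agree_of_eqB nets_ok (by norm_num) nets_r16_0) (by norm_num) ((fx_ev nets_ok.fx _).pow _) (Fx.one _)
  · exact AgreeBits.eq (k := 15) (agree_of_eqB nets_ok (by norm_num) nets_r17_0) (by norm_num) ((fx_ev nets_ok.fx _).pow _) (Fx.one _)
  · exact AgreeBits.eq (k := 15) (agree_of_eqB nets_ok (by norm_num) nets_r18_0) (by norm_num) ((fx_ev nets_ok.fx _).pow _) (Fx.one _)
  · exact AgreeBits.eq (k := 15) (agree_of_eqB nets_ok (by norm_num) nets_r19_0) (by norm_num) ((fx_ev nets_ok.fx _).pow _) (Fx.one _)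
  · exact AgreeBits.eq (k := 15) (agree_of_eqB nets_ok (by norm_num) nets_r20_0) (by norm_num) ((fx_ev nets_ok.fx _).pow _) (Fx.one _)
  · exact AgreeBits.eq (k := 15) (agree_of_eqB nets_ok (by norm_num) nets_r21_0) (by norm_num) ((fx_ev nets_ok.fx _).pow _) (Fx.one _)
  · exact AgreeBits.eq (k := 15) (agree_of_eqB nets_ok (by norm_num) nets_r22_0) (by norm_num) ((fx_ev nets_ok.fx _).pow _) (Fx.one _)
  · exact AgreeBits.eq (k := 15) (agree_of_eqB nets_ok (by norm_num) nets_r23_0) (by norm_num) ((fx_ev nets_ok.fx _).pow _) (Fx.one _)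
  · exact AgreeBits.eq (k := 15) (agree_of_eqB nets_ok (by norm_num) nets_r24_0) (by norm_num) ((fx_ev nets_ok.fx _).pow _) (Fx.one _)
  · exact AgreeBits.eq (k := 15) (agree_of_eqB nets_ok (by norm_num) nets_r25_0) (by norm_num) ((fx_ev nets_ok.fx _).pow _) (Fx.one _)
  · exact AgreeBits.eq (k := 15) (agree_of_eqB nets_ok (by norm_num) nets_r26_0) (by norm_num) ((fx_ev nets_ok.fx _).pow _) (Fx.one _)
  · exact AgreeBits.eq (k := 15) (agree_of_eqB nets_ok (by norm_num) nets_r27_0) (by norm_num) ((fx_ev nets_ok.fx _).pow _) (Fx.one _)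
  · exact AgreeBits.eq (k := 15) (agree_of_eqB nets_ok (by norm_num) nets_r28_0) (by norm_num) ((fx_ev nets_ok.fx _).pow _) (Fx.one _)
  · exact AgreeBits.eq (k := 15) (agree_of_eqB nets_ok (by norm_num) nets_r29_0) (by norm_num) ((fx_ev nets_ok.fx _).pow _) (Fx.one _)
  · exact AgreeBits.eq (k := 15) (agree_of_eqB nets_ok (by norm_num) nets_r30_0) (by norm_num) ((fx_ev nets_ok.fx _).pow _) (Fx.one _)
  · exact AgreeBits.eq (k := 15) (agree_of_eqB nets_ok (by norm_num) nets_r31_0) (by norm_num) ((fx_ev nets_ok.fx _).pow _) (Fx.one _)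
  · exact AgreeBits.eq (k := 15) (agree_of_eqB nets_ok (by norm_num) nets_r32_0) (by norm_num) ((fx_ev nets_ok.fx _).pow _) (Fx.one _)
  · exact AgreeBits.eq (k := 15) (agree_of_eqB nets_ok (by norm_num) nets_r33_0) (by norm_num) ((fx_ev nets_ok.fx _).pow _) (Fx.one _)
  · exact AgreeBits.eq (k := 15) (agree_of_eqB nets_ok (by norm_num) nets_r34_0) (by norm_num) ((fx_ev nets_ok.fx _).pow _) (Fx.one _)
  · exact AgreeBits.eq (k := 15) (agree_of_eqB nets_ok (by norm_num) nets_r35_0) (by norm_num) ((fx_ev nets_ok.fx _).pow _) (Fx.one _)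
  · exact AgreeBits.eq (k := 15) (agree_of_eqB nets_ok (by norm_num) nets_r36_0) (by norm_num) ((fx_ev nets_ok.fx _).pow _) (Fx.one _)
  · exact AgreeBits.eq (k := 15) (agree_of_eqB nets_ok (by norm_num) nets_r37_0) (by norm_num) ((fx_ev nets_ok.fx _).pow _) (Fx.one _)
  · exact AgreeBits.eq (k := 15) (agree_of_eqB nets_ok (by norm_num) nets_r38_0) (by norm_num) ((fx_ev nets_ok.fx _).pow _) (Fx.one _)
  · exact AgreeBits.eq (k := 15) (agree_of_eqB nets_ok (by norm_num) nets_r39_0) (by norm_num) ((fx_ev nets_ok.fx _).pow _) (Fx.one _)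
  · exact AgreeBits.eq (k := 15) (agree_of_eqB nets_ok (by norm_num) nets_r40_0) (by norm_num) ((fx_ev nets_ok.fx _).pow _) (Fx.one _)
  · exact AgreeBits.eq (k := 15) (agree_of_eqB nets_ok (by norm_num) nets_r41_0) (by norm_num) ((fx_ev nets_ok.fx _).pow _) (Fx.one _)
  · exact AgreeBits.eq (k := 15) (agree_of_eqB nets_ok (by norm_num) nets_r42_0) (by norm_num) ((fx_ev nets_ok.fx _).pow _) (Fx.one _)
  · exact AgreeBits.eq (k := 15) (agree_of_eqB nets_ok (by norm_num) nets_r43_0) (by norm_num) ((fx_ev nets_ok.fx _).pow _) (Fx.one _)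
  · exact AgreeBits.eq (k := 15) (agree_of_eqB nets_ok (by norm_num) nets_r44_0) (by norm_num) ((fx_ev nets_ok.fx _).pow _) (Fx.one _)
  · exact AgreeBits.eq (k := 15) (agree_of_eqB nets_ok (by norm_num) nets_r45_0) (by norm_num) ((fx_ev nets_ok.fx _).pow _) (Fx.one _)
  · exact AgreeBits.eq (k := 15) (agree_of_eqB nets_ok (by norm_num) nets_r46_0) (by norm_num) ((fx_ev nets_ok.fx _).pow _) (Fx.one _)
  · exact AgreeBits.eq (k := 15) (agree_of_eqB nets_ok (by norm_num) nets_r47_0) (by norm_num) ((fx_ev nets_ok.fx _).pow _) (Fx.one _)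
  · exact AgreeBits.eq (k := 15) (agree_of_eqB nets_ok (by norm_num) nets_r48_0) (by norm_num) ((fx_ev nets_ok.fx _).pow _) (Fx.one _)
  · exact AgreeBits.eq (k := 15) (agree_of_eqB nets_ok (by norm_num) nets_r49_0) (by norm_num) ((fx_ev nets_ok.fx _).pow _) (Fx.one _)
  · exact AgreeBits.eq (k := 15) (agree_of_eqB nets_ok (by norm_num) nets_r50_0) (by norm_num) ((fx_ev nets_ok.fx _).pow _) (Fx.one _)
  · exact AgreeBits.eq (k := 15) (agree_of_eqB nets_ok (by norm_num) nets_r51_0) (by norm_num) ((fx_ev nets_ok.fx _).pow _) (Fx.one _)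
  · exact AgreeBits.eq (k := 15) (agree_of_eqB nets_ok (by norm_num) nets_r52_0) (by norm_num) ((fx_ev nets_ok.fx _).pow _) (Fx.one _)
  · exact AgreeBits.eq (k := 15) (agree_of_eqB nets_ok (by norm_num) nets_r53_0) (by norm_num) ((fx_ev nets_ok.fx _).pow _) (Fx.one _)
  · exact AgreeBits.eq (k := 15) (agree_of_eqB nets_ok (by norm_num) nets_r54_0) (by norm_num) ((fx_ev nets_ok.fx _).pow _) (Fx.one _)
  · exact AgreeBits.eq (k := 15) (agree_of_eqB nets_ok (by norm_num) nets_r55_0) (by norm_num) ((fx_ev nets_ok.fx _).pow _) (Fx.one _)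
  · exact AgreeBits.eq (k := 15) (agree_of_eqB nets_ok (by norm_num) nets_r56_0) (by norm_num) ((fx_ev nets_ok.fx _).pow _) (Fx.one _)

end Cfsg.Lib.Comp.Fi23
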