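import Cfsg.Agent.Lib.Comp.Fi23.Act
import Cfsg.Agent.Lib.Comp.Fi23.Ex
import Cfsg.Agent.Lib.Comp.Fi22.Main
import Cfsg.Agent.Lib.Comp.Big3

set_option maxRecDepth 100000
set_option Elab.async false

namespace Cfsg.Lib.Comp.Fi23

universe u

noncomputable def pf_h : ℕ := (nat_lit 0x700000000000000000000000000070006000007000007000900000000000000000000000000090008000009000009000800000000000000060000000000000005000000000000000400000000000000030000000000000002000000000000000100000000000000000000010000000006000001000000000000000600000100000000230000000005000006000023000600000100002300080000010000000000000008000001000000001e000000000400000800001e000800000100001e000500000100000000000000050000010000000019000000000400000500001900050000010000190004000001000000000000000400000100000000140000000003000004000014000400000100001400030000010000000000000003000001000000000f000000000200000300000f000300000100000f0002000000000001000000000a0000000000000001000002000100000200000a000200000100000a000900000000000900080000000000080007000000000007000600000000000600050000000000050004000000000004000300000000000300020000000000020001000000000001)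

noncomputable def pf_c : List ℕ := [(nat_lit 0x7300005d00004b00003700000100008500009b00007100005f00004900003500000300008700009900007300005d00004b00003700000100008500009b00007100005f00004900003500000300008700009900007300005d00004b00003700000100008500009b00007100005f00004900003500000300008700009900007300005d00004b00003700000100008500009b00007100005f00004900003500000300008700009900007300005d00004b00003700000100008500009b01fe3f00001500009500960200007100009300008f00920300001500008d00008b00007100001500008d01760600008b00007100001500520300000000001d000081009e0200005d00007f00007b008e0300001d00007900007700005d00001d00007901660600007700005d00001d00420300000000001100006d00920200005d00006b000067008e0300001100006500006300005d000011000065014e0600006300005d00001100320300000000000d000059008e02000049000057000053008a0300000d00005100004f00004900000d000051011e0600004f00004900000d002203000000000009000045008a0200003700004300003f00860300000900003d00003b00003700000900003d00e60600003b00003700000900120300000000002500003100860200000100002d00002900820300002900002700000300000500002900002700a806000027000003000005000203000000000000000000000000000000000000000000000000000000000000000028),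
 (nat_lit 0x190000cf009a0200001b0000b50000190000cb00001b0000b501960600001b0000b50000190062030000210000c300a2020000230000b90000210000bf0000230000b901be060000230000b900002100720300008700009d009e0200009b00009d00960200007300009d00920200005f00009d008e0200004b00009d008a0200003500009d00860200000100009d00820200000d)]

theorem pf_b : goalB 1 (fun _ p => p) iv (allCodes iv (apd (commB iv [(1, 2), (2, 3), (3, 4), (4, 5), (4, 8), (5, 6), (6, 7), (8, 9)]) T1_R)) (fun t => look pf_h 64 t, pf_c) 0 [([1],1,(nat_lit 0xa1)),
 ([2],1,(nat_lit 0xa5)),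
 ([3],1,(nat_lit 0xa9)),
 ([4],1,(nat_lit 0xad)),
 ([5],1,(nat_lit 0xb1)),
 ([6],1,(nat_lit 0xb5)),
 ([7],1,(nat_lit 0xd1)),
 ([8],1,(nat_lit 0xb9)),
 ([9],1,(nat_lit 0xc5))] (msk []) = true := by decide +kernel

theorem pf : Mem.{u} iv (apd (commB iv [(1, 2), (2, 3), (3, 4), (4, 5), (4, 8), (5, 6), (6, 7), (8, 9)]) T1_R) ([].map fun x => [x]) [[1],
 [2],
 [3],
 [4],
 [5],
 [6],
 [7],
 [8],
 [9]] := mem_of_goalB pf_b

noncomputable def dw : List ℕ := pw [2,3,4,5,6,7,8] 8

noncomputable def tb0 : ℕ → ℕ → ℕ := tbx 32768 (tbk 15 4 prs15 nets 256)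

theorem tb0_ok : TbA nets tb0 := tbA_tbx nets_ok (tbk_eq tr15 (by norm_num) (by norm_num) (by norm_num) nets_ok)

noncomputable def trV : List (List ℕ × List ℕ × ℕ × ℕ) := [([2,3,4,5,6,7,10,8,4,5,3,4,8,6,7,5,6,4,5,3,4,8,1,2,3,4,5,6,7,10], [10,7,6,5,4,3,2,1,8,4,3,5,4,6,5,7,6,8,4,3,5,4,8,10,7,6,5,4,3,2], 2, 2), ([6,7,10], [10,7,6], 3, 0)]

open Cfsg.Spor

noncomputable abbrev γ : ℕ → Spor.Fi23 := cval Fi23.edges Fi23.extra D

instance finite23 : Finite Spor.Fi23 := Nat.finite_of_card_ne_zero (by rw [main.2]; norm_num)

theorem faith : ∃ f : Spor.Fi23 →* Equiv.Perm ℕ, Function.Injective f ∧ f.range = cl (gp nets) L ∧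
    ∀ x ∈ L, f (γ x) = gp nets x := by
  obtain ⟨e, he⟩ := equiv
  obtain ⟨f, h1, h2, h3⟩ := faith_of_equiv e
  exact ⟨f, h1, h2, fun x hx => (h3 _).trans (he x hx)⟩

def K : List ℕ := [1,2,3,4,5,6,7,8,9]

theorem action {f : Spor.Fi23 →* Equiv.Perm ℕ} (hf : ∀ x ∈ L, f (γ x) = gp nets x) :
    TransOn f 31671 ∧ cl γ K = stab f 0 ∧ SubsIn f (cl γ K) [3510, 28160] 1 := by
  obtain ⟨h1, h2, h3⟩ := stab_of_idx (U_idx.of_cons (cons_of_subset (R := R) (by decide +kernel))) ok.ivOK (ok.rels hall)
    (ok.top hall) nets_ok hf U_act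
  rw [cl_eq_clw] at h2 h3
  rw [cl_eq_clw] at h3
  have hb := simpleB
  rw [cnd_tt, cnd_tt, cnd_tt] at hb
  exact ⟨h1, h2, subsIn_of_subsB nets_ok h3 hb.2.2.2⟩

theorem K_card : Nat.card (cl γ K) = 129123503308800 := by
  obtain ⟨f, -, -, hf⟩ := faith
  obtain ⟨h1, h2, -⟩ := action hf
  have := (stab f 0).index_mul_card
  rw [h1.index, ← h2, main.2] at this
  omega

theorem T1_rel : Rels γ T1_R := (ok.rels hall).mono (by decide +kernel)

theorem K_hom : ∃ f : cl γ K →* Spor.Fi22, Function.Surjective f ∧
    ∀ (w : List ℕ) (hw : ∀ x ∈ w, x ∈ K), f ⟨ev γ w, ev_mem fun x hx => mem_cl (hw x hx)⟩ =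
      ev (cval Fi22.edges Fi22.extra Fi22.D) w := by
  obtain ⟨f, h1, h2⟩ := surj_of_ord T1_ord ok.ivOK T1_rel Fi22.ok.ivOK
    ((Fi22.ok.rels Fi22.hall).mono (by decide +kernel)) K_card.ge
  exact ⟨f, MonoidHom.range_eq_top.1 (h1.trans (Fi22.ok.top Fi22.hall)), h2⟩

theorem K_perfect : commutator (cl γ K) = ⊤ := perfect_cl ok.ivOK T1_rel (by decide +kernel) pf

theorem K_cover : IsNonsplitDoubleCover (cl γ K) Spor.Fi22 := by
  obtain ⟨f, hf, -⟩ := K_hom
  have := Fi22.main.1
  exact nsdc_of_hom f hf (by rw [K_card, Fi22.main.2]) K_perfect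
    (center_eq_bot (by rw [Fi22.main.2]; norm_num))

theorem three : orderOf (ev γ dw) = 2 ∧ Subgroup.centralizer {ev γ dw} = cl γ K ∧
    IsThreeTranspositionSet (conjugatesOf (ev γ dw)) ∧ Nat.card (conjugatesOf (ev γ dw)) = 31671 := by
  obtain ⟨f, hi, -, hf⟩ := faith
  obtain ⟨h1, h2, h3⟩ := action hf
  have hd : orderOf (ev γ dw) = 2 := orderOf_eq_prime (eq_of_base hi hf base tb0_ok (w := []) (by decide +kernel))
    (ne_of_neP hf tb0_ok (w := []) (p := 3511) (by decide +kernel))
  exact ⟨hd, three_tr h1 h2 h3 (rs := trV.map fun v => ev γ v.1)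
    (repsAt_cons (apply_of_wap hf tb0_ok (by decide +kernel))
      (repsAt_cons (apply_of_wap hf tb0_ok (by decide +kernel)) trivial)) (by norm_num) hd
    (cen_of_cenP hi hf base tb0_ok (by decide +kernel)) (tr_of_trP hi hf base tb0_ok (by decide +kernel))⟩

end Cfsg.Lib.Comp.Fi23
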